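import Groth.Agent.Lib.Helper6.DeRhamQuot
import Mathlib

set_option linter.unusedSectionVars false
set_option linter.unusedVariables false
set_option linter.unusedSimpArgs false
set_option autoImplicit false
set_option linter.style.haveILetI false
set_option maxHeartbeats 400000

/-!
# Wedge and contraction on exterior powers
-/

open exteriorPower

namespace Groth.Agent.Lib.Helper6.Poincare

open Groth.Agent.Lib.Helper6.DeRhamQuot Groth.Agent.Lib.Helper6.DeRhamGen

variable {A M : Type*} [CommRing A] [AddCommGroup M] [Module A M]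

theorem coe_wedgeL (q : ℕ) (a : M) (y : ↥(⋀[A]^q M)) :
    ((wedgeL q a y : ↥(⋀[A]^(q + 1) M)) : ExteriorAlgebra A M)
      = ExteriorAlgebra.ι A a * (y : ExteriorAlgebra A M) := by
  have hy : y ∈ Submodule.span A (Set.range (ιMulti A q (M := M))) := by
    rw [ιMulti_span]
    trivial
  induction hy using Submodule.span_induction with
  | mem y hy =>
    obtain ⟨m, rfl⟩ := hy
    rw [wedgeL_ιMulti, coe_ιMulti_cons, ιMulti_apply_coe]
  | zero => simp
  | add x y _ _ hx hy => simp [hx, hy, mul_add]
  | smul c x _ hx => simp [hx]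

/-- contraction lowers the degree -/
theorem contractLeft_mem (φ : Module.Dual A M) :
    ∀ (p : ℕ) (x : ExteriorAlgebra A M), x ∈ ⋀[A]^(p + 1) M →
      CliffordAlgebra.contractLeft (Q := (0 : QuadraticForm A M)) φ x ∈ ⋀[A]^p M := by
  intro p
  induction p with
  | zero =>
    intro x hx
    rw [← ExteriorAlgebra.ιMulti_span_fixedDegree] at hx
    induction hx using Submodule.span_induction with
    | mem x hx =>
      obtain ⟨v, rfl⟩ := hx
      rw [ExteriorAlgebra.ιMulti_succ_apply, ExteriorAlgebra.ιMulti_zero_apply, mul_one]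
      show CliffordAlgebra.contractLeft φ (CliffordAlgebra.ι 0 (v 0)) ∈ _
      rw [CliffordAlgebra.contractLeft_ι]
      show algebraMap A (ExteriorAlgebra A M) _ ∈ _
      rw [Algebra.algebraMap_eq_smul_one]
      exact Submodule.smul_mem _ _ (by
        show (1 : ExteriorAlgebra A M) ∈ ⋀[A]^0 M
        rw [ExteriorAlgebra.exteriorPower, pow_zero]
        exact Submodule.one_le.mp le_rfl)
    | zero => rw [map_zero]; exact Submodule.zero_mem _
    | add x y _ _ hx hy => rw [map_add]; exact Submodule.add_mem _ hx hy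
    | smul c x _ hx => rw [map_smul]; exact Submodule.smul_mem _ _ hx
  | succ p ih =>
    intro x hx
    rw [← ExteriorAlgebra.ιMulti_span_fixedDegree] at hx
    induction hx using Submodule.span_induction with
    | mem x hx =>
      obtain ⟨v, rfl⟩ := hx
      rw [ExteriorAlgebra.ιMulti_succ_apply]
      show CliffordAlgebra.contractLeft φ (CliffordAlgebra.ι 0 (v 0) * _) ∈ _
      rw [CliffordAlgebra.contractLeft_ι_mul]
      refine Submodule.sub_mem _ (Submodule.smul_mem _ _ ?_) ?_
      · exact ExteriorAlgebra.ιMulti_range A (p + 1) ⟨_, rfl⟩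
      · have h1 := ih _ (ExteriorAlgebra.ιMulti_range A (p + 1) ⟨Matrix.vecTail v, rfl⟩)
        show ExteriorAlgebra.ι A (v 0) * _ ∈ ⋀[A]^(p + 1) M
        rw [ExteriorAlgebra.exteriorPower, pow_succ']
        exact Submodule.mul_mem_mul (LinearMap.mem_range_self _ _) h1
    | zero => rw [map_zero]; exact Submodule.zero_mem _
    | add x y _ _ hx hy => rw [map_add]; exact Submodule.add_mem _ hx hy
    | smul c x _ hx => rw [map_smul]; exact Submodule.smul_mem _ _ hx

/-- contraction `⋀^{p+1} M → ⋀^p M` with a linear form -/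
noncomputable def contrP (φ : Module.Dual A M) (p : ℕ) : ↥(⋀[A]^(p + 1) M) →ₗ[A] ↥(⋀[A]^p M) where
  toFun x := ⟨CliffordAlgebra.contractLeft (Q := (0 : QuadraticForm A M)) φ x.1,
    contractLeft_mem φ p x.1 x.2⟩
  map_add' x y := by
    apply Subtype.ext
    simp
  map_smul' c x := by
    apply Subtype.ext
    simp

theorem coe_contrP (φ : Module.Dual A M) (p : ℕ) (x : ↥(⋀[A]^(p + 1) M)) :
    ((contrP φ p x : ↥(⋀[A]^p M)) : ExteriorAlgebra A M)
      = CliffordAlgebra.contractLeft (Q := (0 : QuadraticForm A M)) φ x.1 := rfl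

theorem contrP_wedgeL_succ (φ : Module.Dual A M) (p : ℕ) (a : M) (y : ↥(⋀[A]^(p + 1) M)) :
    contrP φ (p + 1) (wedgeL (p + 1) a y) = φ a • y - wedgeL p a (contrP φ p y) := by
  apply Subtype.ext
  rw [coe_contrP, coe_wedgeL]
  show CliffordAlgebra.contractLeft φ (CliffordAlgebra.ι 0 a * _) = _
  rw [CliffordAlgebra.contractLeft_ι_mul]
  simp only [Submodule.coe_sub, Submodule.coe_smul, coe_wedgeL, coe_contrP]

theorem contrP_wedgeL_zero (φ : Module.Dual A M) (a : M) (y : ↥(⋀[A]^0 M)) :
    contrP φ 0 (wedgeL 0 a y) = φ a • y := by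
  apply Subtype.ext
  rw [coe_contrP, coe_wedgeL]
  show CliffordAlgebra.contractLeft φ (CliffordAlgebra.ι 0 a * _) = _
  rw [CliffordAlgebra.contractLeft_ι_mul]
  have hy : CliffordAlgebra.contractLeft (Q := (0 : QuadraticForm A M)) φ (y : ExteriorAlgebra A M)
      = 0 := by
    have h1 : (y : ExteriorAlgebra A M) ∈ (LinearMap.range (ExteriorAlgebra.ι A (M := M))) ^ 0 :=
      y.2
    rw [pow_zero, Submodule.mem_one] at h1
    obtain ⟨c, hc⟩ := h1
    rw [← hc]
    exact CliffordAlgebra.contractLeft_algebraMap (Q := (0 : QuadraticForm A M)) (d := φ) c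
  rw [hy, mul_zero, sub_zero]
  rfl

end Groth.Agent.Lib.Helper6.Poincare
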