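import Groth.Agent.Lib.Helper6.Poincare.Wedge

set_option linter.unusedSectionVars false
set_option linter.unusedVariables false
set_option linter.unusedSimpArgs false
set_option autoImplicit false
set_option linter.style.haveILetI false
set_option maxHeartbeats 400000

/-!
# Cartan's formula for the contraction with a vector field (abstract form)
-/

open exteriorPower

namespace Groth.Agent.Lib.Helper6.Poincare

open Groth.Agent.Lib.Helper6.DeRhamQuot Groth.Agent.Lib.Helper6.DeRhamGen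

universe v u

variable {R : Type v} {A M : Type u} [CommRing R] [CommRing A] [Algebra R A]
  [AddCommGroup M] [Module A M] [Module R M] [IsScalarTower R A M]

omit [Module R M] [IsScalarTower R A M] [Algebra R A] in
theorem ιMulti_cons_cons_swap (q : ℕ) (a b : M) (m : Fin q → M) :
    ιMulti A (q + 2) (Fin.cons a (Fin.cons b m) : Fin (q + 2) → M)
      = - ιMulti A (q + 2) (Fin.cons b (Fin.cons a m) : Fin (q + 2) → M) := by
  apply Subtype.ext
  rw [coe_ιMulti_cons, Submodule.coe_neg, coe_ιMulti_cons, ← ιMulti_apply_coe, ← ιMulti_apply_coe,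
    coe_ιMulti_cons, coe_ιMulti_cons, ← mul_assoc, ← mul_assoc]
  have h : ExteriorAlgebra.ι A a * ExteriorAlgebra.ι A b
      = - (ExteriorAlgebra.ι A b * ExteriorAlgebra.ι A a) := by
    rw [eq_neg_iff_add_eq_zero]
    exact ExteriorAlgebra.ι_add_mul_swap a b
  rw [h, neg_mul]

omit [Module R M] [IsScalarTower R A M] [Algebra R A] in
theorem wedgeL_smul_ιMulti (q : ℕ) (a : M) (c : A) (m : Fin q → M) :
    wedgeL q a (c • ιMulti A q m) = c • ιMulti A (q + 1) (Fin.cons a m : Fin (q + 1) → M) := by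
  rw [map_smul, wedgeL_ιMulti]

theorem cons_delta (δ : Derivation R A M) (q : ℕ) (x : A) (b : Fin q → A) :
    (fun i => δ ((Fin.cons x b : Fin (q + 1) → A) i)) = Fin.cons (δ x) (fun i => δ (b i)) := by
  funext i
  refine Fin.cases ?_ (fun j => ?_) i
  · simp
  · simp

variable (δ : Derivation R A M) (hδ : Submodule.span A (Set.range δ) = ⊤)
  (d : ∀ p : ℕ, ↥(⋀[A]^p M) →ₗ[R] ↥(⋀[A]^(p + 1) M)) (hd : DeRham.IsDiff δ d)
include hδ hd

/-- (D1) -/
theorem d_wedgeL (q : ℕ) (x : A) (ζ : ↥(⋀[A]^q M)) :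
    d (q + 1) (wedgeL q (δ x) ζ) = - wedgeL (q + 1) (δ x) (d q ζ) := by
  induction ζ using gen_induction δ hδ q with
  | zero => simp
  | add y z hy hz => rw [map_add, map_add, hy, hz, map_add, map_add, neg_add]
  | gen b₀ b =>
    have h1 : wedgeL q (δ x) (DeRham.gen δ q b₀ b) = DeRham.gen δ (q + 1) b₀ (Fin.cons x b) := by
      unfold DeRham.gen
      rw [wedgeL_smul_ιMulti, cons_delta]
    rw [h1, hd.1 (q + 1), hd.1 q, wedgeL_ιMulti, cons_delta, ιMulti_cons_cons_swap]

/-- (D2) -/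
theorem d_smul (q : ℕ) (x : A) (ζ : ↥(⋀[A]^q M)) :
    d q (x • ζ) = wedgeL q (δ x) ζ + x • d q ζ := by
  induction ζ using gen_induction δ hδ q with
  | zero => simp
  | add y z hy hz =>
    rw [smul_add, map_add, hy, hz, map_add, map_add, smul_add]
    abel
  | gen b₀ b =>
    have h := commutator_gen δ d hd.1 q x b₀ b
    have h2 : wedgeL q (δ x) (DeRham.gen δ q b₀ b)
        = b₀ • ιMulti A (q + 1) (Fin.cons (δ x) (fun i => δ (b i)) : Fin (q + 1) → M) := by
      unfold DeRham.gen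
      rw [wedgeL_smul_ιMulti]
    rw [h2, ← h]
    abel

variable (φ : Module.Dual A M)

/-- the degree-zero Lie derivative -/
noncomputable def lie0 : ↥(⋀[A]^0 M) →ₗ[R] ↥(⋀[A]^0 M) :=
  ((contrP φ 0).restrictScalars R).comp (d 0)

/-- the Lie derivative `d ι + ι d` in positive degree -/
noncomputable def lieS (q : ℕ) : ↥(⋀[A]^(q + 1) M) →ₗ[R] ↥(⋀[A]^(q + 1) M) :=
  (d q).comp ((contrP φ q).restrictScalars R) + ((contrP φ (q + 1)).restrictScalars R).comp (d (q + 1))

omit hδ hd in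
theorem lie0_apply (η : ↥(⋀[A]^0 M)) : lie0 d φ η = contrP φ 0 (d 0 η) := rfl

omit hδ hd in
theorem lieS_apply (q : ℕ) (η : ↥(⋀[A]^(q + 1) M)) :
    lieS d φ q η = d q (contrP φ q η) + contrP φ (q + 1) (d (q + 1) η) := rfl

/-- recursion, degree zero -/
theorem lieS_zero_wedgeL (x : A) (η : ↥(⋀[A]^0 M)) :
    lieS d φ 0 (wedgeL 0 (δ x) η)
      = wedgeL 0 (δ (φ (δ x))) η + wedgeL 0 (δ x) (lie0 d φ η) := by
  rw [lieS_apply, lie0_apply, contrP_wedgeL_zero, d_smul δ hδ d hd, d_wedgeL δ hδ d hd, map_neg,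
    contrP_wedgeL_succ]
  abel

/-- recursion, positive degree -/
theorem lieS_succ_wedgeL (q : ℕ) (x : A) (η : ↥(⋀[A]^(q + 1) M)) :
    lieS d φ (q + 1) (wedgeL (q + 1) (δ x) η)
      = wedgeL (q + 1) (δ (φ (δ x))) η + wedgeL (q + 1) (δ x) (lieS d φ q η) := by
  rw [lieS_apply, lieS_apply, contrP_wedgeL_succ, map_sub, d_smul δ hδ d hd, d_wedgeL δ hδ d hd,
    d_wedgeL δ hδ d hd, map_neg, contrP_wedgeL_succ, map_add]
  abel

/-- `d` commutes with the Lie derivative -/
theorem d_lieS (q : ℕ) (η : ↥(⋀[A]^(q + 1) M)) :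
    d (q + 1) (lieS d φ q η) = lieS d φ (q + 1) (d (q + 1) η) := by
  have h1 : ∀ (p : ℕ) (z : ↥(⋀[A]^p M)), d (p + 1) (d p z) = 0 := fun p z =>
    LinearMap.congr_fun (hd.2 p) z
  rw [lieS_apply, lieS_apply, map_add, h1, zero_add, h1, map_zero, add_zero]

end Groth.Agent.Lib.Helper6.Poincare
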