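import Groth.Agent.Lib.Helper6.Poincare.Cartan

set_option linter.unusedSectionVars false
set_option linter.unusedVariables false
set_option linter.unusedSimpArgs false
set_option autoImplicit false
set_option linter.style.haveILetI false
set_option maxHeartbeats 400000

/-!
# The Lie derivative along an Euler-type field on coordinate forms
-/

open exteriorPower

namespace Groth.Agent.Lib.Helper6.Poincare

open Groth.Agent.Lib.Helper6.DeRhamQuot Groth.Agent.Lib.Helper6.DeRhamGen

universe v u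

variable {R : Type v} {A M : Type u} [CommRing R] [CommRing A] [Algebra R A]
  [AddCommGroup M] [Module A M] [Module R M] [IsScalarTower R A M]

variable (δ : Derivation R A M) (hδ : Submodule.span A (Set.range δ) = ⊤)
  (d : ∀ p : ℕ, ↥(⋀[A]^p M) →ₗ[R] ↥(⋀[A]^(p + 1) M)) (hd : DeRham.IsDiff δ d)
  (φ : Module.Dual A M) {σ : Type*} (x : σ → A) (hx : ∀ i, φ (δ (x i)) = x i)
include hδ hd hx

theorem lie0_coord (f : A) (v : Fin 0 → M) :
    lie0 d φ (f • ιMulti A 0 v) = φ (δ f) • ιMulti A 0 v := by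
  have hv : v = fun i => δ ((Fin.elim0 : Fin 0 → A) i) := funext fun i => Fin.elim0 i
  have h1 : f • ιMulti A 0 v = DeRham.gen δ 0 f Fin.elim0 := by
    unfold DeRham.gen
    rw [hv]
  rw [lie0_apply, h1, hd.1 0, ← wedgeL_ιMulti, contrP_wedgeL_zero, ← hv]

theorem ιMulti_succ_eq_wedgeL (q : ℕ) (v : Fin (q + 1) → M) :
    ιMulti A (q + 1) v = wedgeL q (v 0) (ιMulti A q (Fin.tail v)) := by
  rw [wedgeL_ιMulti, Fin.cons_self_tail]

theorem lieS_coord : ∀ (q : ℕ) (s : Fin (q + 1) → σ) (f : A),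
    lieS d φ q (f • ιMulti A (q + 1) (fun j => δ (x (s j))))
      = (φ (δ f) + ((q + 1 : ℕ) : A) * f) • ιMulti A (q + 1) (fun j => δ (x (s j))) := by
  intro q
  induction q with
  | zero =>
    intro s f
    set v : Fin 1 → M := fun j => δ (x (s j)) with hv
    have e0 : ιMulti A 1 v = wedgeL 0 (δ (x (s 0))) (ιMulti A 0 (Fin.tail v)) :=
      ιMulti_succ_eq_wedgeL δ hδ d hd φ x hx 0 v
    have e1 : f • ιMulti A 1 v = wedgeL 0 (δ (x (s 0))) (f • ιMulti A 0 (Fin.tail v)) := by
      rw [LinearMap.map_smul, ← e0]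
    rw [e1, lieS_zero_wedgeL δ hδ d hd, hx, lie0_coord δ hδ d hd φ x hx, LinearMap.map_smul,
      LinearMap.map_smul, ← e0, ← add_smul]
    congr 1
    push_cast
    ring
  | succ q ih =>
    intro s f
    set v : Fin (q + 2) → M := fun j => δ (x (s j)) with hv
    have e0 : ιMulti A (q + 2) v = wedgeL (q + 1) (δ (x (s 0))) (ιMulti A (q + 1) (Fin.tail v)) :=
      ιMulti_succ_eq_wedgeL δ hδ d hd φ x hx (q + 1) v
    have e1 : f • ιMulti A (q + 2) v
        = wedgeL (q + 1) (δ (x (s 0))) (f • ιMulti A (q + 1) (Fin.tail v)) := by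
      rw [LinearMap.map_smul, ← e0]
    have h2 : Fin.tail v = fun j : Fin (q + 1) => δ (x (s j.succ)) := rfl
    have := ih (fun j => s j.succ) f
    rw [e1, lieS_succ_wedgeL δ hδ d hd, hx, h2, this, LinearMap.map_smul, LinearMap.map_smul,
      ← h2, ← e0, ← add_smul]
    congr 1
    push_cast
    ring

end Groth.Agent.Lib.Helper6.Poincare
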