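import Groth.Agent.Lib.Helper6.Poincare.PS

set_option linter.unusedSectionVars false
set_option linter.unusedVariables false
set_option linter.unusedSimpArgs false
set_option autoImplicit false
set_option linter.style.haveILetI false
set_option maxHeartbeats 400000

/-!
# The formal Poincaré lemma
-/

open exteriorPower

namespace Groth.Agent.Lib.Helper6.Poincare

universe u

open MvPowerSeries

section

variable (k : Type u) [Field k] [CharZero k] (σ : Type u) [Fintype σ]

theorem Eu_zero (m : ℕ) : Eu k σ m 0 = 0 := by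
  unfold Eu
  simp

theorem Eu_add (m : ℕ) (f g : MvPowerSeries σ k) : Eu k σ m (f + g) = Eu k σ m f + Eu k σ m g := by
  unfold Eu
  simp only [map_add, mul_add, Finset.sum_add_distrib]
  ring

end

theorem main (k : Type u) [Field k] [CharZero k] (σ : Type u) [Finite σ]
    (δ : Derivation k (MvPowerSeries σ k) (σ → MvPowerSeries σ k))
    (hδ : ∀ (f : MvPowerSeries σ k) (i : σ), δ f i = MvPowerSeries.pderiv k i f)
    (hgen : Submodule.span (MvPowerSeries σ k) (Set.range δ) = ⊤)
    (d : ∀ p : ℕ, ↥(⋀[MvPowerSeries σ k]^p (σ → MvPowerSeries σ k)) →ₗ[k]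
      ↥(⋀[MvPowerSeries σ k]^(p + 1) (σ → MvPowerSeries σ k)))
    (hd : DeRham.IsDiff δ d) (p : ℕ) :
    DeRham.cocycles d (p + 1) ≤ DeRham.coboundaries d (p + 1) := by
  classical
  cases nonempty_fintype σ
  letI : LinearOrder σ := LinearOrder.lift' (Fintype.equivFin σ) (Fintype.equivFin σ).injective
  set b := Pi.basisFun (MvPowerSeries σ k) σ with hb
  set φ := eulerForm k σ with hφ
  have hbX : ∀ i, δ (X i : MvPowerSeries σ k) = b i := by
    intro i
    funext j
    rw [hδ, pderiv_X, hb, Pi.basisFun_apply, Pi.single_apply, Pi.single_apply]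
    simp only [eq_comm]
  have hx : ∀ i, φ (δ (X i : MvPowerSeries σ k)) = X i := by
    intro i
    rw [hφ, eulerForm_apply, hbX, hb, Pi.basisFun_apply]
    rw [Finset.sum_eq_single i]
    · rw [Pi.single_eq_same, mul_one]
    · intro j _ hj
      rw [Pi.single_eq_of_ne hj, mul_zero]
    · intro h
      exact absurd (Finset.mem_univ i) h
  have hEu : ∀ (q : ℕ) (f : MvPowerSeries σ k),
      φ (δ f) + ((q + 1 : ℕ) : MvPowerSeries σ k) * f = Eu k σ (q + 1) f := by
    intro q f
    rw [hφ, eulerForm_apply]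
    unfold Eu
    simp_rw [hδ]
  -- the Lie derivative on basis elements
  have hL : ∀ (q : ℕ) (S : Set.powersetCard σ (q + 1)) (f : MvPowerSeries σ k),
      lieS d φ q (f • (b.exteriorPower (q + 1)) S)
        = Eu k σ (q + 1) f • (b.exteriorPower (q + 1)) S := by
    intro q S f
    have h1 : (b.exteriorPower (q + 1)) S = ιMulti (MvPowerSeries σ k) (q + 1)
        (fun j => δ ((X : σ → MvPowerSeries σ k) (Set.powersetCard.ofFinEmbEquiv.symm S j))) := by
      rw [exteriorPower.basis_apply]
      unfold ιMulti_family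
      congr 1
      funext j
      rw [Function.comp_apply, hbX]
    rw [h1, lieS_coord δ hgen d hd φ (X : σ → MvPowerSeries σ k) hx q _ f, hEu]
  have hrepr : ∀ (q : ℕ) (ω : ↥(⋀[MvPowerSeries σ k]^(q + 1) (σ → MvPowerSeries σ k)))
      (S : Set.powersetCard σ (q + 1)),
      (b.exteriorPower (q + 1)).repr (lieS d φ q ω) S
        = Eu k σ (q + 1) ((b.exteriorPower (q + 1)).repr ω S) := by
    intro q ω S
    obtain ⟨g, rfl⟩ : ∃ g, ω = (b.exteriorPower (q + 1)).repr.symm g :=
      ⟨(b.exteriorPower (q + 1)).repr ω, ((b.exteriorPower (q + 1)).repr.symm_apply_apply ω).symm⟩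
    induction g using Finsupp.induction_linear with
    | zero => simp [Eu_zero]
    | add g h hg hh =>
      rw [map_add, map_add, map_add, Finsupp.add_apply, hg, hh, map_add, Finsupp.add_apply, Eu_add]
    | single S' c =>
      rw [Module.Basis.repr_symm_single, hL, map_smul, map_smul, Module.Basis.repr_self,
        Finsupp.smul_apply, Finsupp.smul_apply, smul_eq_mul, smul_eq_mul]
      by_cases hS : S' = S
      · subst hS
        rw [Finsupp.single_eq_same, mul_one, mul_one]
      · rw [Finsupp.single_eq_of_ne (Ne.symm hS), mul_zero, mul_zero, Eu_zero]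
  have hinj : ∀ (q : ℕ) (ω : ↥(⋀[MvPowerSeries σ k]^(q + 1) (σ → MvPowerSeries σ k))),
      lieS d φ q ω = 0 → ω = 0 := by
    intro q ω h
    apply (b.exteriorPower (q + 1)).repr.injective
    rw [map_zero]
    apply Finsupp.ext
    intro S
    have := hrepr q ω S
    rw [h, map_zero, Finsupp.zero_apply] at this
    rw [Finsupp.zero_apply]
    exact Eu_injective k σ (q + 1) (Nat.succ_pos q) _ this.symm
  have hsurj : ∀ (q : ℕ) (ω : ↥(⋀[MvPowerSeries σ k]^(q + 1) (σ → MvPowerSeries σ k))),
      ∃ η, lieS d φ q η = ω := by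
    intro q ω
    refine ⟨(b.exteriorPower (q + 1)).repr.symm
      (Finsupp.mapRange (EuInv k σ (q + 1)) (EuInv_zero k σ (q + 1))
        ((b.exteriorPower (q + 1)).repr ω)), ?_⟩
    apply (b.exteriorPower (q + 1)).repr.injective
    apply Finsupp.ext
    intro S
    rw [hrepr, LinearEquiv.apply_symm_apply, Finsupp.mapRange_apply,
      Eu_EuInv k σ (q + 1) (Nat.succ_pos q)]
  -- the final argument
  intro ω hω
  have hω' : d (p + 1) ω = 0 := hω
  obtain ⟨η, hη⟩ := hsurj p ω
  have hdη : d (p + 1) η = 0 := by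
    apply hinj (p + 1)
    rw [← d_lieS δ hgen d hd φ p η, hη, hω']
  show ω ∈ LinearMap.range (d p)
  refine ⟨contrP φ p η, ?_⟩
  rw [← hη, lieS_apply, hdη, map_zero, add_zero]

end Groth.Agent.Lib.Helper6.Poincare
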