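import Groth.Agent.Lib.Helper6.Poincare.Coord

set_option linter.unusedSectionVars false
set_option linter.unusedVariables false
set_option linter.unusedSimpArgs false
set_option autoImplicit false
set_option linter.style.haveILetI false
set_option maxHeartbeats 400000

/-!
# The Euler operator on multivariate power series
-/

namespace Groth.Agent.Lib.Helper6.Poincare

universe u

variable (k : Type u) [Field k] [CharZero k] (σ : Type u) [Fintype σ]

open MvPowerSeries

/-- The Euler form `m ↦ Σ X_i m_i`. -/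
noncomputable def eulerForm : Module.Dual (MvPowerSeries σ k) (σ → MvPowerSeries σ k) :=
  ∑ i : σ, (X i : MvPowerSeries σ k) • LinearMap.proj i

theorem eulerForm_apply (m : σ → MvPowerSeries σ k) :
    eulerForm k σ m = ∑ i : σ, (X i : MvPowerSeries σ k) * m i := by
  simp [eulerForm]

theorem coeff_X_mul_pderiv (i : σ) (f : MvPowerSeries σ k) (a : σ →₀ ℕ) :
    coeff a ((X i : MvPowerSeries σ k) * pderiv k i f) = (a i : k) * coeff a f := by
  classical
  rw [X_def, coeff_monomial_mul, one_mul]
  split_ifs with h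
  · have hi : 1 ≤ a i := by
      have := h i
      simpa using this
    rw [coeff_pderiv]
    have h1 : a - Finsupp.single i 1 + Finsupp.single i 1 = a := tsub_add_cancel_of_le h
    rw [h1, mul_comm]
    congr 1
    have h2 : ((a - Finsupp.single i 1 : σ →₀ ℕ) i) + 1 = a i := by
      rw [Finsupp.tsub_apply, Finsupp.single_eq_same]
      omega
    rw [← h2]
    push_cast
    ring
  · have hi : a i = 0 := by
      by_contra hne
      apply h
      rw [Finsupp.single_le_iff]
      omega
    rw [hi]
    simp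

/-- The operator `E + m`. -/
noncomputable def Eu (m : ℕ) (f : MvPowerSeries σ k) : MvPowerSeries σ k :=
  (∑ i : σ, (X i : MvPowerSeries σ k) * pderiv k i f) + (m : MvPowerSeries σ k) * f

theorem coeff_Eu (m : ℕ) (f : MvPowerSeries σ k) (a : σ →₀ ℕ) :
    coeff a (Eu k σ m f) = (((∑ i : σ, a i) + m : ℕ) : k) * coeff a f := by
  unfold Eu
  rw [map_add, map_sum]
  simp_rw [coeff_X_mul_pderiv]
  rw [← Finset.sum_mul]
  have : coeff a ((m : MvPowerSeries σ k) * f) = (m : k) * coeff a f := by
    have h1 : (m : MvPowerSeries σ k) = C (m : k) := by simp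
    rw [h1, ← smul_eq_C_mul, map_smul, smul_eq_mul]
  rw [this]
  push_cast
  ring

theorem Eu_injective (m : ℕ) (hm : 0 < m) (f : MvPowerSeries σ k) (h : Eu k σ m f = 0) : f = 0 := by
  ext a
  have := congrArg (coeff a) h
  rw [coeff_Eu, map_zero] at this
  rw [map_zero]
  rcases mul_eq_zero.1 this with h1 | h1
  · exfalso
    have : ((∑ i : σ, a i) + m : ℕ) ≠ 0 := by omega
    exact this (by exact_mod_cast h1)
  · exact h1

/-- The inverse of `E + m`. -/
noncomputable def EuInv (m : ℕ) (g : MvPowerSeries σ k) : MvPowerSeries σ k :=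
  fun a => coeff a g / (((∑ i : σ, a i) + m : ℕ) : k)

theorem coeff_EuInv (m : ℕ) (g : MvPowerSeries σ k) (a : σ →₀ ℕ) :
    coeff a (EuInv k σ m g) = coeff a g / (((∑ i : σ, a i) + m : ℕ) : k) := rfl

theorem Eu_EuInv (m : ℕ) (hm : 0 < m) (g : MvPowerSeries σ k) : Eu k σ m (EuInv k σ m g) = g := by
  ext a
  rw [coeff_Eu, coeff_EuInv]
  have : (((∑ i : σ, a i) + m : ℕ) : k) ≠ 0 := by
    have : ((∑ i : σ, a i) + m : ℕ) ≠ 0 := by omega
    exact_mod_cast this
  field_simp

theorem EuInv_zero (m : ℕ) : EuInv k σ m 0 = 0 := by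
  ext a
  rw [coeff_EuInv, map_zero, zero_div]

end Groth.Agent.Lib.Helper6.Poincare
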